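import Cfsg.Agent.H783.InvSL
import Cfsg.Prelude.Def_Classical
import Mathlib.GroupTheory.Perm.Sign
import Mathlib.GroupTheory.Perm.ViaEmbedding
import Mathlib.GroupTheory.SpecificGroups.Alternating
import Mathlib.Algebra.Group.Action.Basic
import Mathlib.LinearAlgebra.Matrix.Permutation
import Cfsg.Agent.H573.DefChar
import Cfsg.Agent.KFacts.RgdLieCharP
import Cfsg.Agent.S0280
import Cfsg.Agent.SmallSimple.PSLTwoPart
import Cfsg.Agent.LieRecognition.ReeSylowThree
import Cfsg.Agent.ChevalleyStructure.Ree.Data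
import Cfsg.Agent.S1156
import Cfsg.Agent.FastGrp
import Cfsg.Agent.Prune
set_option linter.all false
prune_inst 0x7fbcfdf9afb82ddeffff7e7ffeb9dffe39d5dfffe6dffb4b7fe8f9ffabdf33083be5fb8f1de050ff0ed6e03e10b87853fbffee7fe26bdc7ffffd1ff45ffbee1fe5f7bd0871d79c340fbc6fffe3f07fce7f3fffffffffffffffffffffffffffbeffffffffffff
open scoped Cfsg.Agent.FastGrp

-- part: H789/Exo/Alt
section
/-!
# Cyclic groups of prime order and alternating groups (helper789)

* `doubleInv_perm` : `DoubleInv p (Equiv.Perm α)` if `2 p ≤ |α|`;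
* `doubleInv_alternating` : `DoubleInv p (alternatingGroup α)` if `2 p + 2 ≤ |α|`;
* `row_cyclic`, `row_alternating` : the rows `IsPrimeCyclic`, `IsAlternating`.
-/

set_option autoImplicit false

namespace Cfsg.Agent.H789.Exo

open Cfsg

universe u v w

section perm

variable (p : ℕ)

/-- translation by one -/
def rot : Equiv.Perm (ZMod p) := Equiv.addRight (1 : ZMod p)

/-- negation -/
def refl : Equiv.Perm (ZMod p) := Equiv.neg (ZMod p)

theorem rot_pow_apply (k : ℕ) (i : ZMod p) : (rot p ^ k) i = i + k := by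
  induction k generalizing i with
  | zero => simp
  | succ k ih =>
    rw [pow_succ, Equiv.Perm.mul_apply, ih]
    simp only [rot, _root_.Equiv.coe_addRight, _root_.Nat.cast_add, _root_.Nat.cast_one]
    ring

theorem rot_pow : rot p ^ p = 1 := by
  ext i
  rw [rot_pow_apply]
  simp

theorem rot_ne (hp : p.Prime) : rot p ≠ 1 := by
  intro h
  have h1 := Equiv.congr_fun h (0 : ZMod p)
  have : Fact p.Prime := ⟨hp⟩
  simp [rot] at h1

theorem refl_rot : refl p * rot p * (refl p)⁻¹ = (rot p)⁻¹ := by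
  rw [mul_inv_eq_iff_eq_mul, eq_inv_mul_iff_mul_eq]
  ext i
  simp [rot, refl, Equiv.Perm.mul_apply]

variable {p}

theorem sign_rot (hp : p.Prime) (hp2 : 3 ≤ p) [Fintype (ZMod p)] [DecidableEq (ZMod p)] :
    Equiv.Perm.sign (rot p) = 1 := by
  have h1 : (Equiv.Perm.sign (rot p)) ^ p = 1 := by rw [← map_pow, rot_pow, map_one]
  have h2 : Odd p := hp.odd_of_ne_two (by omega)
  rcases Int.units_eq_one_or (Equiv.Perm.sign (rot p)) with h3 | h3
  · exact h3
  · rw [h3, h2.neg_one_pow] at h1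
    exact absurd h1 (by decide)

theorem hasInv_perm (hp : p.Prime) : HasInv p (Equiv.Perm (ZMod p)) :=
  ⟨rot p, refl p, rot_ne p hp, ⟨1, by rw [pow_one, rot_pow]⟩, refl_rot p⟩

/-- the correction of the sign -/
def corr (σ : ℤˣ) : Equiv.Perm (Fin 2) := if σ = 1 then 1 else Equiv.swap 0 1

theorem sign_corr (σ : ℤˣ) : Equiv.Perm.sign (corr σ) = σ := by
  unfold corr
  split_ifs with h
  · rw [h, map_one]
  · rw [Equiv.Perm.sign_swap (by decide)]
    rcases Int.units_eq_one_or σ with h3 | h3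
    · exact absurd h3 h
    · exact h3.symm

/-- `DoubleInv` in alternating groups of degree at least `2 p + 2` -/
theorem doubleInv_alternating (hp : p.Prime) (hp2 : 3 ≤ p) {α : Type u} [Fintype α] [DecidableEq α]
    (hα : 2 * p + 2 ≤ Fintype.card α) : DoubleInv p (alternatingGroup α) := by
  classical
  have : NeZero p := ⟨hp.pos.ne'⟩
  have h1 : Fintype.card (ZMod p ⊕ (ZMod p ⊕ Fin 2)) ≤ Fintype.card α := by
    rw [Fintype.card_sum, Fintype.card_sum, ZMod.card, Fintype.card_fin]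
    omega
  obtain ⟨ι⟩ := Function.Embedding.nonempty_of_card_le h1
  let f : Equiv.Perm (ZMod p) × Equiv.Perm (ZMod p) × Equiv.Perm (Fin 2) →* Equiv.Perm α :=
    (Equiv.Perm.viaEmbeddingHom ι).comp ((Equiv.Perm.sumCongrHom (ZMod p) (ZMod p ⊕ Fin 2)).comp
      ((MonoidHom.id _).prodMap (Equiv.Perm.sumCongrHom (ZMod p) (Fin 2))))
  have hfinj : Function.Injective f := by
    intro a b hab
    have h2 := Equiv.Perm.sumCongrHom_injective (Equiv.Perm.viaEmbeddingHom_injective ι hab)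
    have h3 := congrArg Prod.fst h2
    have h4 := Equiv.Perm.sumCongrHom_injective (congrArg Prod.snd h2)
    exact Prod.ext h3 h4
  have hsign : ∀ a b c, Equiv.Perm.sign (f (a, b, c)) =
      Equiv.Perm.sign a * (Equiv.Perm.sign b * Equiv.Perm.sign c) := by
    intro a b c
    have h2 : f (a, b, c) = Equiv.Perm.viaEmbedding (Equiv.Perm.sumCongr a (Equiv.Perm.sumCongr b c)) ι := rfl
    rw [h2]
    unfold Equiv.Perm.viaEmbedding
    rw [Equiv.Perm.sign_extendDomain, Equiv.Perm.sign_sumCongr, Equiv.Perm.sign_sumCongr]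
  set σ := Equiv.Perm.sign (refl p) with hσ
  have hx : f (rot p, 1, 1) ∈ alternatingGroup α := by
    rw [Equiv.Perm.mem_alternatingGroup, hsign, map_one, map_one, sign_rot hp hp2]
    rfl
  have hy : f (1, rot p, 1) ∈ alternatingGroup α := by
    rw [Equiv.Perm.mem_alternatingGroup, hsign, map_one, map_one, sign_rot hp hp2]
    rfl
  have hs : f (refl p, 1, corr σ) ∈ alternatingGroup α := by
    rw [Equiv.Perm.mem_alternatingGroup, hsign, map_one, sign_corr, one_mul, ← hσ, Int.units_mul_self]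
  have ht : f (1, refl p, corr σ) ∈ alternatingGroup α := by
    rw [Equiv.Perm.mem_alternatingGroup, hsign, map_one, sign_corr, one_mul, ← hσ, Int.units_mul_self]
  refine ⟨⟨_, hx⟩, ⟨_, hy⟩, ⟨_, hs⟩, ⟨_, ht⟩, ?_, ?_, ⟨1, ?_⟩, ⟨1, ?_⟩, ?_, ?_, ?_, ?_, ?_⟩
  · intro h
    have h2 := hfinj ((congrArg Subtype.val h).trans (map_one f).symm)
    exact rot_ne p hp (congrArg Prod.fst h2)
  · intro h
    have h2 := hfinj ((congrArg Subtype.val h).trans (map_one f).symm)
    exact rot_ne p hp (congrArg Prod.fst (congrArg Prod.snd h2))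
  · apply Subtype.ext
    change f (rot p, 1, 1) ^ p ^ 1 = 1
    rw [pow_one, ← map_pow, Prod.pow_mk, Prod.pow_mk, rot_pow, one_pow, one_pow]
    exact map_one f
  · apply Subtype.ext
    change f (1, rot p, 1) ^ p ^ 1 = 1
    rw [pow_one, ← map_pow, Prod.pow_mk, Prod.pow_mk, rot_pow, one_pow, one_pow]
    exact map_one f
  · apply Subtype.ext
    change f _ * f _ = f _ * f _
    rw [← map_mul, ← map_mul]
    simp only [Prod.mk_mul_mk, one_mul, mul_one]
  · apply Subtype.ext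
    change f _ * f _ * (f _)⁻¹ = (f _)⁻¹
    rw [← map_inv, ← map_inv, ← map_mul, ← map_mul]
    simp only [Prod.mk_mul_mk, Prod.inv_mk, inv_one, mul_one, refl_rot, mul_inv_cancel]
  · apply Subtype.ext
    change f _ * f _ = f _ * f _
    rw [← map_mul, ← map_mul]
    simp only [Prod.mk_mul_mk, one_mul, mul_one]
  · apply Subtype.ext
    change f _ * f _ = f _ * f _
    rw [← map_mul, ← map_mul]
    simp only [Prod.mk_mul_mk, one_mul, mul_one]
  · apply Subtype.ext
    change f _ * f _ * (f _)⁻¹ = (f _)⁻¹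
    rw [← map_inv, ← map_inv, ← map_mul, ← map_mul]
    simp only [Prod.mk_mul_mk, Prod.inv_mk, inv_one, mul_one, refl_rot, mul_inv_cancel]

end perm

/-- numerics -/
theorem two_mul_add_two_le {p : ℕ} (hp : 3 ≤ p) : 2 * p + 2 ≤ p ^ 2 * (p - 1) := by
  obtain ⟨k, rfl⟩ : ∃ k, p = k + 3 := ⟨p - 3, by omega⟩
  rw [show k + 3 - 1 = k + 2 by omega]
  nlinarith [Nat.zero_le k]

variable {p n : ℕ} {G : Type u} [Group G]

/-- groups of prime order -/
theorem row_cyclic [Finite G] (h : Pearly p n G) (hX : IsPrimeCyclic G) : False := by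
  have h1 := h.val
  have h2 : (Nat.card G).factorization p ≤ 1 := by
    rw [Nat.Prime.factorization hX]
    by_cases h3 : p = Nat.card G
    · rw [h3, Finsupp.single_eq_same]
    · rw [Finsupp.single_eq_of_ne h3]
      omega
  have := h.five
  omega

/-- alternating groups -/
theorem row_alternating [Finite G] (h : Pearly p n G) (hX : IsAlternating G) : False := by
  obtain ⟨m, -, ⟨e⟩⟩ := hX
  have h' := h.congr e
  have hp := h.prime
  have : Fact p.Prime := ⟨hp⟩
  -- a field of characteristic different from `p`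
  have h2 : ((p : ℕ) : ℚ) ≠ 0 := by
    exact_mod_cast hp.pos.ne'
  let f : alternatingGroup (Fin m) →* Matrix (Fin m) (Fin m) ℚ :=
    { toFun := fun σ => ((σ : Equiv.Perm (Fin m))⁻¹).permMatrix ℚ
      map_one' := by simp
      map_mul' := fun a b => by
        rw [Subgroup.coe_mul, mul_inv_rev, Matrix.permMatrix_mul] }
  have hf : Function.Injective f := by
    intro a b hab
    have h3 : ((a : Equiv.Perm (Fin m))⁻¹).permMatrix ℚ = ((b : Equiv.Perm (Fin m))⁻¹).permMatrix ℚ := hab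
    apply Subtype.ext
    apply inv_injective
    have h4 := PEquiv.toMatrix_injective h3
    ext i
    have h5 := congrArg (fun g : Fin m ≃. Fin m => g i) h4
    simp only [Equiv.toPEquiv_apply] at h5
    exact congrArg Fin.val (Option.some_injective _ h5)
  have h3 := h'.le_card h2 f hf
  rw [Fintype.card_fin] at h3
  exact h'.dinv (doubleInv_alternating hp h.odd (by
    rw [Fintype.card_fin]
    exact (two_mul_add_two_le h.odd).trans h3))

end Cfsg.Agent.H789.Exo
end

-- part: H766/ExoRgd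
section
/-!
# S5268, exoticness: groups of Lie type of rank at least two in defining characteristic (helper766)

`false_of_rgd` : a finite group with a root group datum of characteristic `p` with two adjacent nodes does not satisfy
`H789.Exo.Pearly p N`: in `P_i = N(V_i)` the element `t n_i ∈ ⟨X_i, X_{-i}⟩` acts nontrivially on `V_i`.
-/

set_option autoImplicit false
set_option linter.unusedSectionVars false

namespace Cfsg.Agent.H766.Exo

open CoxeterSystem Cfsg.Agent.ChevalleyStructure.CoxeterGeom Cfsg.Agent.Tits.Roots Cfsg.Agent.Tits.Core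
  Cfsg.Agent.Tits.Exchange Cfsg.Agent.Nodes.Reps Cfsg.Agent.Nodes.BNOf Cfsg.Agent.Nodes.BNOf.RGD
  Cfsg.Agent.Nodes.StabComb
  Cfsg.Agent.Nodes.Bruhat Cfsg.Agent.Nodes.OppDec Cfsg.Agent.Nodes.LeviDec Cfsg.Agent.Nodes.NormalForm
  Cfsg.Agent.Schreier.BNSch Cfsg.Agent.H789.Exo

variable {I W Y : Type*} [Fintype I] [DecidableEq I] [Group W] [Group Y] {M : CoxeterMatrix I}
  {cs : CoxeterSystem M W} {A : I → I → ℤ} {h : IsCartan M A} {p : ℕ} {T : Subgroup Y} {n : I → Y}
  {X : (I → ℤ) → Subgroup Y} [Finite W]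

/-- a simple reflection moves an adjacent simple root -/
theorem rep_ne {k l : I} (hkl : k ≠ l) (h2 : M k l ≠ 2) : rep cs h (cs.simple k) (sr l) ≠ sr l := by
  intro he
  have h3 := congrFun he k
  rw [rep_simple_apply_self, sr_ne hkl, zero_sub, neg_eq_zero] at h3
  have h4 : pairing A k (sr l) = A k l := by
    rw [sr, pairing_single, mul_one]
  rw [h4] at h3
  have h5 := cartan_neg h hkl h2
  omega

/-- `V_k` is small -/
theorem card_V_lt [Finite Y] (R : RGD cs h p T n X) {N : ℕ} (H : Pearly p N Y) {k l : I} (hkl : k ≠ l)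
    (h2 : M k l ≠ 2) : Nat.card (Sup X (PosNe cs h k)) < p ^ 3 := by
  have hp : Fact p.Prime := ⟨H.prime⟩
  by_contra hcon
  push Not at hcon
  have hVp : IsPGroup p (Sup X (PosNe cs h k)) := R.isPGroup_of_pos fun z hz => ⟨hz.1, hz.2.1⟩
  obtain ⟨φ, hφ⟩ := H.aut _ hVp hcon
  -- elements of `p`-power order are in the kernel
  have hker : ∀ g : Subgroup.normalizer (Sup X (PosNe cs h k) : Set Y), (∃ m : ℕ, ((g : Y)) ^ p ^ m = 1) → φ g = 1 := by
    rintro g ⟨m, hm⟩
    refine (hφ g).2 ⟨m, ?_⟩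
    rw [hm]
    exact one_mem _
  -- `X_{-k}`
  have hn : n k ∈ Subgroup.normalizer (Sup X (PosNe cs h k) : Set Y) := by
    rw [Subgroup.mem_normalizer_iff]
    intro x
    constructor
    · intro hx
      rw [← R.cj_n_V k]
      exact conj_mem_cj.2 hx
    · intro hx
      rw [← R.cj_n_V k] at hx
      exact conj_mem_cj.1 hx
  have hX := R.X_le_normalizer_V k
  have hXneg : ∀ u ∈ X (-sr k), ∃ v ∈ X (sr k), u = n k * v * (n k)⁻¹ := by
    intro u hu
    have h3 := R.conj_mem' (rp_simple cs R.nsys k) (isRoot_sr cs h k).neg hu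
    rw [inv_simple, map_neg, rep_simple_sr, neg_neg] at h3
    exact ⟨_, h3, by group⟩
  obtain ⟨v, hv, hv1⟩ := exists_ne_one R k
  have hu : n k * v * (n k)⁻¹ ∈ X (-sr k) := by
    have h3 := R.conj_mem (rp_simple cs R.nsys k) (isRoot_sr cs h k) hv
    rwa [rep_simple_sr] at h3
  have hu1 : n k * v * (n k)⁻¹ ≠ 1 := by
    intro h3
    rw [mul_inv_eq_one, mul_eq_left] at h3
    exact hv1 h3
  obtain ⟨a, ha, t, ht, b, hb, e⟩ := R.rk1 k _ hu hu1
  have hpow : ∀ a ∈ X (sr k), ∃ m : ℕ, a ^ p ^ m = 1 := by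
    intro a ha
    obtain ⟨m, hm⟩ := R.pgrp k ⟨a, ha⟩
    exact ⟨m, congrArg Subtype.val hm⟩
  -- the element `g = t n_k`
  have hT : T ≤ Subgroup.normalizer (Sup X (PosNe cs h k) : Set Y) := T_le_normalizer R fun x hx => hx.1
  have hg : t * n k ∈ Subgroup.normalizer (Sup X (PosNe cs h k) : Set Y) := mul_mem (hT ht) hn
  have hg1 : φ ⟨t * n k, hg⟩ = 1 := by
    have e1 : (⟨t * n k, hg⟩ : Subgroup.normalizer (Sup X (PosNe cs h k) : Set Y)) =
        (⟨a, hX ha⟩)⁻¹ * ⟨n k * v * (n k)⁻¹, mul_mem (mul_mem hn (hX hv)) (inv_mem hn)⟩ * (⟨b, hX hb⟩)⁻¹ := by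
      apply Subtype.ext
      change t * n k = a⁻¹ * (n k * v * (n k)⁻¹) * b⁻¹
      rw [e]
      group
    have e2 : φ ⟨n k * v * (n k)⁻¹, mul_mem (mul_mem hn (hX hv)) (inv_mem hn)⟩ = 1 := by
      apply hker
      obtain ⟨m, hm⟩ := hpow v hv
      refine ⟨m, ?_⟩
      change (n k * v * (n k)⁻¹) ^ p ^ m = 1
      rw [conj_pow, hm, mul_one, mul_inv_cancel]
    have e3 : φ ⟨a, hX ha⟩ = 1 := hker ⟨a, hX ha⟩ (hpow a ha)
    have e4 : φ ⟨b, hX hb⟩ = 1 := hker ⟨b, hX hb⟩ (hpow b hb)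
    rw [e1, map_mul, map_mul, map_inv, map_inv, e2, e3, e4, inv_one, one_mul, mul_one]
  obtain ⟨m, hm⟩ := (hφ _).1 hg1
  change (t * n k) ^ p ^ m ∈ _ at hm
  -- an odd power of `t n_k` lies in `T n_k`
  have hodd : Odd (p ^ m) := (H.prime.odd_of_ne_two (by have := H.odd; omega)).pow
  obtain ⟨r, hr⟩ := hodd
  have hsq : t * n k * (t * n k) ∈ T := by
    have e2 : t * n k * (t * n k) = t * (n k * t * (n k)⁻¹) * (n k * n k) := by group
    rw [e2]
    refine mul_mem (mul_mem ht ?_) (R.sq_mem_T k)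
    exact (Subgroup.mem_normalizer_iff.1 (R.nsys.norm k) t).1 ht
  have h3 : (t * n k) ^ p ^ m = ((t * n k * (t * n k)) ^ r * t) * n k := by
    rw [hr, pow_succ, pow_mul, pow_two]
    group
  rw [h3] at hm
  set t' := (t * n k * (t * n k)) ^ r * t with ht'
  have ht'T : t' ∈ T := mul_mem (pow_mem hsq r) ht
  -- it moves `X_l`
  have h4 : cj (t' * n k) (X (sr l)) = X (rep cs h (cs.simple k) (sr l)) := by
    rw [cj_mul, R.conj_rp (rp_simple cs R.nsys k) (isRoot_sr cs h l), R.tor _ ((isRoot_sr cs h l).act _) _ ht'T]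
  have hlV : X (sr l) ≤ Sup X (PosNe cs h k) := le_Sup (S := PosNe cs h k)
    ⟨isRoot_sr cs h l, sr_nonneg l, fun e => by
      have h5 := congrFun e l
      rw [sr_self, sr_ne hkl.symm] at h5
      exact absurd h5 (by decide)⟩
  have h5 : cj (t' * n k) (X (sr l)) = X (sr l) := by
    ext x
    rw [mem_cj]
    rw [Subgroup.mem_centralizer_iff] at hm
    constructor
    · intro hx
      have h6 := hm _ (hlV hx)
      have h7 : x = (t' * n k)⁻¹ * x * (t' * n k) := by
        calc x = (t' * n k) * ((t' * n k)⁻¹ * x * (t' * n k)) * (t' * n k)⁻¹ := by group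
          _ = ((t' * n k)⁻¹ * x * (t' * n k)) * (t' * n k) * (t' * n k)⁻¹ := by rw [← h6]
          _ = _ := by group
      rw [h7]
      exact hx
    · intro hx
      have h6 := hm _ (hlV hx)
      have h7 : (t' * n k)⁻¹ * x * (t' * n k) = x := by
        rw [mul_assoc, h6, inv_mul_cancel_left]
      rw [h7]
      exact hx
  have h6 := X_inf_X R (isRoot_sr cs h l) ((isRoot_sr cs h l).act (cs.simple k)) (rep_ne hkl h2).symm
  rw [← h4, h5, inf_idem] at h6
  exact X_ne_bot R (isRoot_sr cs h l) h6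

/-- **Rank at least two.** -/
theorem false_of_rgd [Finite Y] (R : RGD cs h p T n X) (hG : GG cs h T X = ⊤) {N : ℕ} (H : Pearly p N Y) {i j : I}
    (hij : i ≠ j) (h2 : M i j ≠ 2) : False := by
  have hp : Fact p.Prime := ⟨H.prime⟩
  have h1 := card_V_lt R H hij h2
  have h3 := card_V_lt R H hij.symm (by rwa [M.symmetric])
  have hidx : ¬ p ∣ (Sup X (Pos cs h)).index := by
    have := KFacts.RgdSyl.not_dvd_relIndex R
    rwa [hG, Subgroup.relIndex_top_right] at this
  let U : Sylow p Y := R.isPGroup_Upos.toSylow hidx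
  have hU : Nat.card (Sup X (Pos cs h)) = p ^ N := by
    have h4 := U.card_eq_multiplicity
    rw [H.val] at h4
    exact h4
  -- orders
  have hle : Nat.card (Sup X (Pos cs h)) ≤ Nat.card (X (sr i)) * Nat.card (Sup X (PosNe cs h i)) := by
    rw [R.Upos_eq i, ← Nat.card_prod]
    refine Nat.card_le_card_of_surjective (fun z : X (sr i) × Sup X (PosNe cs h i) =>
      (⟨(z.1 : Y) * z.2, mul_mem (le_sup_left (a := X (sr i)) z.1.2) (le_sup_right (b := Sup X (PosNe cs h i)) z.2.2)⟩ :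
        (X (sr i) ⊔ Sup X (PosNe cs h i) : Subgroup Y))) ?_
    rintro ⟨g, hg⟩
    have hg' : g ∈ ((X (sr i) ⊔ Sup X (PosNe cs h i) : Subgroup Y) : Set Y) := hg
    rw [Subgroup.coe_mul_of_left_le_normalizer_right _ _ (R.X_le_normalizer_V i)] at hg'
    obtain ⟨a, ha, b, hb, rfl⟩ := hg'
    exact ⟨(⟨a, ha⟩, ⟨b, hb⟩), rfl⟩
  have hXj : Nat.card (X (sr i)) ≤ Nat.card (Sup X (PosNe cs h j)) := by
    refine Subgroup.card_le_of_le (le_Sup (S := PosNe cs h j) ⟨isRoot_sr cs h i, sr_nonneg i, fun e => ?_⟩)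
    have h5 := congrFun e i
    rw [sr_self, sr_ne hij] at h5
    exact absurd h5 (by decide)
  have hVp : ∀ k, ∃ m, Nat.card (Sup X (PosNe cs h k)) = p ^ m := fun k =>
    IsPGroup.iff_card.1 (R.isPGroup_of_pos fun z hz => ⟨hz.1, hz.2.1⟩)
  obtain ⟨a, ha⟩ := hVp i
  obtain ⟨b, hb⟩ := hVp j
  rw [ha] at h1
  rw [hb] at h3
  have ha2 := (Nat.pow_lt_pow_iff_right H.prime.one_lt).1 h1
  have hb2 := (Nat.pow_lt_pow_iff_right H.prime.one_lt).1 h3
  have h6 : p ^ N ≤ p ^ (a + b) := by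
    rw [← hU]
    refine hle.trans ?_
    rw [ha, add_comm, pow_add, ← hb]
    exact Nat.mul_le_mul_right _ hXj
  have h7 := (Nat.pow_le_pow_iff_right H.prime.one_lt).1 h6
  have := H.five
  omega

end Cfsg.Agent.H766.Exo
end

-- part: H766/ExoLie
section
/-!
# S5268, exoticness: the simple groups of Lie type of rank at least two in defining characteristic (helper766)

* `Has2 p G` : `G` has a root group datum of characteristic `p` of rank at least two;
* `Has2.false` : a simple group with `Has2 p G` does not satisfy `Pearly p N`;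
* `has2_*` : the families.
-/

set_option autoImplicit false
set_option linter.unusedSectionVars false

namespace Cfsg.Agent.H766.Exo

open Cfsg Cfsg.Agent.ChevalleyStructure.CoxeterGeom Cfsg.Agent.Tits.Roots Cfsg.Agent.Nodes.Reps
  Cfsg.Agent.Nodes.BNOf Cfsg.Agent.Nodes.Bruhat Cfsg.Agent.Nodes.OppDec Cfsg.Agent.Nodes.LeviDec
  Cfsg.Agent.KFacts.RgdLieCharP Cfsg.Agent.KFacts.RgdFilt Cfsg.Agent.H789.Exo

variable {p : ℕ}

/-- `G` has a root group datum of characteristic `p` and of rank at least two -/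
def Has2 (p : ℕ) (G : Type*) [Group G] : Prop :=
  ∃ (l : ℕ) (M : CoxeterMatrix (Fin l)) (A : Fin l → Fin l → ℤ) (h : IsCartan M A) (T : Subgroup G) (n : Fin l → G)
    (X : (Fin l → ℤ) → Subgroup G) (_ : RGD M.toCoxeterSystem h p T n X),
    Finite M.Group ∧ Nodes.RGDLib.G1 M.toCoxeterSystem h X = ⊤ ∧ 2 ≤ l

theorem Has2.of_equiv {G H : Type*} [Group G] [Group H] [Finite G] (e : G ≃* H) (hG : Has2 p G) :
    Has2 p H := by
  obtain ⟨l, M, A, h, T, n, X, R, hW, hX, hl⟩ := hG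
  refine ⟨l, M, A, h, T.map e.toMonoidHom, fun i => e (n i), fun x => (X x).map e.toMonoidHom,
    Nodes.RGDLib.rgd_map_of_injective R e.toMonoidHom e.injective, hW, ?_, hl⟩
  have h1 : (Nodes.RGDLib.G1 M.toCoxeterSystem h X).map e.toMonoidHom =
      Nodes.RGDLib.G1 M.toCoxeterSystem h (fun x => (X x).map e.toMonoidHom) := by
    unfold Nodes.RGDLib.G1 RGD.Sup
    rw [Subgroup.map_iSup]
  rw [← h1, hX, Subgroup.map_top_of_surjective _ e.surjective]

theorem Has2.false {G : Type*} [Group G] [Finite G] [IsSimpleGroup G] {N : ℕ} (hc : ∃ a b : G, a * b ≠ b * a)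
    (hG : Has2 p G) (H : Pearly p N G) : False := by
  obtain ⟨l, M, A, h, T, n, X, R, hW, hX, hl⟩ := hG
  have hconn := conn_of_simple R hX (center_eq_bot hc)
  have h0 : (0 : ℕ) < l := by omega
  have h1 : (1 : ℕ) < l := by omega
  obtain ⟨a, ha, b, hb, hab⟩ := hconn {(⟨0, h0⟩ : Fin l)} (Set.singleton_nonempty _) (by
    intro e
    have h2 : (⟨1, h1⟩ : Fin l) ∈ ({(⟨0, h0⟩ : Fin l)} : Set (Fin l)) := by rw [e]; trivial
    have h3 := congrArg Fin.val (Set.mem_singleton_iff.1 h2)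
    exact absurd h3 one_ne_zero)
  have hne : a ≠ b := by
    rintro rfl
    exact hb ha
  exact false_of_rgd R (GG_eq_top hX) H hne hab

/-! ### classical groups -/

section TypeC

open Cfsg.Agent.Nodes.TypeC Cfsg.Agent.Nodes.Comb Cfsg.Agent.Nodes.WittRoot
open Cfsg.Agent.Nodes.RGDLib Cfsg.Agent.Nodes.WittAll
open Cfsg.Agent.TitsThree Cfsg.Agent.TitsThree.Siegel Cfsg.Agent.TitsThree.WittFrame
  Cfsg.Agent.TitsThree.WittWeyl Cfsg.Agent.TitsThree.FrameCN

variable {F : Type*} [Field F] {V : Type*} [AddCommGroup V] [Module F V] {H : HForm F V} {n : ℕ}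
  {Fr : Frame H (Fin n)} {K : Type*} [Group K] (M : Model Fr K)

theorem has2_C (hA : AmbT Fr p M.I) [Finite V] [Fact p.Prime] [CharP F p] {p0 : Fr.Adm} (hp0 : p0.c ≠ 0)
    (hn : 2 ≤ n) : Has2 p K :=
  ⟨n, CoxeterMatrix.B n, A n, isCartan n, _, _, _, rgdC_model M hA hp0 _,
    finite_W (CoxeterMatrix.B n).toCoxeterSystem, Nodes.WittModel.G1_eq_top _ (by omega) _, hn⟩

end TypeC

theorem has2_PSL {F : Type*} [Field F] [Finite F] (n : ℕ) (hn : 2 ≤ n) [Fact p.Prime] [CharP F p] :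
    Has2 p (Matrix.ProjectiveSpecialLinearGroup (Fin (n + 1)) F) := by
  have hW : Finite (Cfsg.Agent.LieRecognition.BNCox.cA n).Group :=
    Nodes.RootsA.finite_W (Cfsg.Agent.LieRecognition.BNCox.cA n).toCoxeterSystem (Nodes.RootsA.isCartan n)
  exact ⟨n, Cfsg.Agent.LieRecognition.BNCox.cA n, _, Nodes.RootsA.isCartan n, _, _, _, Nodes.RGDTypeA.rgd_psl _ _, hW,
    Nodes.RGDTypeA.G1_psl_eq_top _ _, hn⟩

section USp

open Cfsg.Agent.Nodes.WittU Cfsg.Agent.Nodes.WittInst Cfsg.Agent.Nodes.WittAll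
open Cfsg.Agent.TitsThree Cfsg.Agent.TitsThree.Siegel Cfsg.Agent.TitsThree.WittFrame
  Cfsg.Agent.TitsThree.WittWeyl Cfsg.Agent.TitsThree.FrameCN

theorem has2_PSU {F : Type*} [Field F] [Fintype F] {q N : ℕ} (hF : Fintype.card F = q ^ 2) (hN : 4 ≤ N)
    [Fact p.Prime] [CharP F p] : Has2 p (PSU N F q) := by
  obtain ⟨m, hm⟩ : ∃ m, N = 2 * m ∨ N = 2 * m + 1 := ⟨N / 2, by omega⟩
  obtain ⟨W, -⟩ := exists_wframe hF hm
  obtain ⟨p0, hp0, -⟩ := exists_adm hF W
  exact has2_C (KInstU.model hF (by omega) W) (AmbT.of_amb (amb_U hF W) p) hp0 (by omega)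

theorem has2_PSp {F : Type*} [Field F] [Finite F] {m : ℕ} (hm : 2 ≤ m)
    [Fact p.Prime] [CharP F p] : Has2 p (PSp m F) :=
  has2_C (KInstSp.model m F) (AmbT.of_amb amb_Sp p) (p0 := SpIdent.adm 1) one_ne_zero hm

end USp

section Orthogonal

open QuadraticMap
open Cfsg.Agent.Nodes.WittInst Cfsg.Agent.Nodes.WittAll
open Cfsg.Agent.Nodes.RGDLib
open Cfsg.Agent.TitsThree Cfsg.Agent.TitsThree.Siegel Cfsg.Agent.TitsThree.WittFrame
  Cfsg.Agent.TitsThree.WittWeyl Cfsg.Agent.TitsThree.FrameCN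
open Cfsg.Agent.LieClassical Cfsg.Agent.LieClassical.OrthCore Cfsg.Agent.LieClassical.OrthTrans
open Cfsg.Agent.LieClassical.OrthSimple Cfsg.Agent.LieClassical.OrthFinite
open Cfsg.Agent.LieClassical.OrthForms
open Cfsg.Agent.TitsThree.WBridge Cfsg.Agent.TitsThree.KSideO Cfsg.Agent.TitsThree.StdData

variable {F : Type*} [Field F] {m : ℕ}

theorem has2_PO_odd [Finite F] (h2 : (2 : F) ≠ 0) (hm : 2 ≤ m) [Fact p.Prime] [CharP F p] :
    Has2 p (Cfsg.POmega F (Cfsg.quadFormOdd m F)) := by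
  rw [← coe_oddForm]
  have hG : _root_.Cfsg.Agent.LieClassical.OrthTrans.Good (oddForm m F) := by
    apply good_of_finite (nondeg_oddForm m F h2)
    rw [Module.finrank_fintype_fun_eq_card, Fintype.card_sum, Fintype.card_sum, Fintype.card_fin,
      Fintype.card_unit]
    omega
  have hp : ((embOdd m F).ngt ⟨1, -1 ^ 2, rfl⟩).c ≠ 0 := by
    change (1 : F)⁻¹ * (-1 ^ 2) ≠ 0
    simp
  exact has2_C (model (wodd m F) hG ⟨_, hp⟩) (AmbT.of_amb (amb_O_of_two _ h2) p) hp (by omega)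

theorem has2_PO_minus [Finite F] (h2 : (2 : F) ≠ 0) (a b : F)
    (hab : ∀ z₁ z₂ : F, z₁ ^ 2 + a * z₁ * z₂ + b * z₂ ^ 2 = 0 → z₁ = 0 ∧ z₂ = 0)
    (hm : 3 ≤ m) [Fact p.Prime] [CharP F p] :
    Has2 p (Cfsg.POmega F (Cfsg.quadFormMinus m F a b)) := by
  rw [← coe_minusForm]
  have hG : _root_.Cfsg.Agent.LieClassical.OrthTrans.Good (minusForm m F a b) := by
    apply good_of_finite (nondeg_minusForm m F a b hab)
    rw [Module.finrank_fintype_fun_eq_card, Fintype.card_sum, Fintype.card_sum, Fintype.card_fin,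
      Fintype.card_fin]
    omega
  have hp : ((embMinus m F a b hab).ngt ⟨(1, 0), -nf a b (1, 0), rfl⟩).c ≠ 0 := by
    change (1 : F)⁻¹ * (-nf a b (1, 0)) ≠ 0
    simp [nf]
  exact has2_C (model (wminus m F a b hab) hG ⟨_, hp⟩) (AmbT.of_amb (amb_O_of_two _ h2) p) hp (by omega)

theorem has2_PO_plus [Finite F] (n : ℕ) [Fact p.Prime] [CharP F p] :
    Has2 p (Cfsg.POmega F (Cfsg.quadFormPlus (n + 3) F)) := by
  rw [← coe_plusForm]
  have hG : _root_.Cfsg.Agent.LieClassical.OrthTrans.Good (plusForm (n + 3) F) := by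
    apply good_of_finite (nondeg_plusForm (n + 3) F)
    rw [Module.finrank_fintype_fun_eq_card, Fintype.card_sum, Fintype.card_fin]
    omega
  exact ⟨_, _, _, _, _, _, _, rgdD_model (wplus (n + 3) F) hG (amb_plus _) (adm_plus _) _,
    Nodes.TypeD.finite_W (Nodes.TypeD.M (n + 1)).toCoxeterSystem,
    G1D_eq_top (wplus (n + 3) F) (toPOmega hG) (toPOmega_surjective hG) (adm_plus _) _, by omega⟩

end Orthogonal

/-! ### exceptional groups -/

section Chev

open Cfsg.Lie Cfsg.Agent.ChevalleyStructure Cfsg.Agent.ChevalleyStructure.Elts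
  Cfsg.Agent.ChevalleyStructure.RootVec Cfsg.Agent.ChevalleyStructure.RootVecTab
  Cfsg.Agent.ChevalleyStructure.NPerm Cfsg.Agent.ChevalleyStructure.CoxeterGeomTypes
open Cfsg.Agent.Nodes Cfsg.Agent.Nodes.RGDChev

universe u

theorem has2_group {D : ChevalleyDatum} {l : ℕ} {M : CoxeterMatrix (Fin l)} (hp : IsType D l M) (hl : 2 ≤ l)
    (K : Type u) [Field K] [Finite K] [CharP K p] : Has2 p ↥(D.group K) := by
  have : Fact p.Prime := ⟨CharP.char_is_prime K p⟩
  exact ⟨l, M, cartanOf D l, hp.isCartan, _, _, _, rgd (K := K) hp M.toCoxeterSystem p,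
    finite_W hp M.toCoxeterSystem, G1_eq_top hp _, hl⟩

theorem has2_of_exceptional {G : Type*} [Group G] (hG : IsExceptionalChevChar p G) : Has2 p G := by
  obtain ⟨F, _, _, _, ⟨-, ⟨e⟩⟩ | ⟨⟨e⟩⟩ | ⟨⟨e⟩⟩ | ⟨⟨e⟩⟩ | ⟨⟨e⟩⟩⟩ := hG
  · exact (has2_group (l := 2) (M := CoxeterMatrix.G₂) (by simp [IsType, typeList]) (by norm_num) F).of_equiv e.symm
  · exact (has2_group (l := 4) (M := CoxeterMatrix.F₄) (by simp [IsType, typeList]) (by norm_num) F).of_equiv e.symm
  · exact (has2_group (l := 6) (M := CoxeterMatrix.E₆) (by simp [IsType, typeList]) (by norm_num) F).of_equiv e.symm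
  · exact (has2_group (l := 7) (M := CoxeterMatrix.E₇) (by simp [IsType, typeList]) (by norm_num) F).of_equiv e.symm
  · exact (has2_group (l := 8) (M := CoxeterMatrix.E₈) (by simp [IsType, typeList]) (by norm_num) F).of_equiv e.symm

end Chev

section Tw

open Cfsg.Lie Cfsg.Agent.ChevalleyStructure Cfsg.Agent.ChevalleyStructure.Elts
  Cfsg.Agent.ChevalleyStructure.RootVec Cfsg.Agent.ChevalleyStructure.RootVecTab
open Cfsg.Agent.Nodes Cfsg.Agent.Nodes.RGDTwGen Cfsg.Agent.Nodes.RGDFold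

universe u

variable {D : ChevalleyDatum} {l : ℕ} {M' : CoxeterMatrix (Fin l)} {hp : RGDChev.IsType D l M'} {K : Type u} [Field K]
variable {m : ℕ} {M : CoxeterMatrix (Fin m)} {A : Fin m → Fin m → ℤ}
  {J : Fin m → List (Fin l)} {L : List (List ℕ)} {σ : GL D.Idx K →* GL D.Idx K} {ρ ρ' : ℕ → ℕ}
    {f : ℕ → K → K} {G : Subgroup (GL D.Idx K)} (FD : FoldData D M A J L)
    (FG : FoldGrp hp K J L σ ρ ρ' f G)

include FD FG

theorem has2_fold [Finite K] [CharP K p] (h : IsCartan M A) (hm : 2 ≤ m) : Has2 p ↥G := by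
  have : Fact p.Prime := ⟨CharP.char_is_prime K p⟩
  exact ⟨m, M, A, h, _, _, _, rgd M.toCoxeterSystem h FD FG p, finite_W (hp := hp) M.toCoxeterSystem h FD,
    G1_eq_top M.toCoxeterSystem h FD FG p, hm⟩

end Tw

section Tw2

open Cfsg.Lie Cfsg.Agent.ChevalleyStructure Cfsg.Agent.Nodes

theorem has2_of_twisted {G : Type*} [Group G] (hG : IsTwistedE6D4Char p G) : Has2 p G := by
  obtain ⟨K, _, _, _, q, hq, ⟨hK, ⟨e⟩⟩ | ⟨hK, ⟨e⟩⟩⟩ := hG
  · obtain ⟨φ, hφ, hqq⟩ := TwE6Basic.exists_frob hq hK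
    exact (has2_fold RGDTwE6.foldData (RGDTwE6.foldGrp hφ hqq) RGDTwE6.isCartan (by norm_num)).of_equiv e.symm
  · obtain ⟨φ, hφ⟩ := D4Fixed.exists_frob hq hK
    exact (has2_fold RGDTwD4.foldData (RGDTwD4.foldGrp hφ (D4Fixed.twisted_le_fix hK hφ)) RGDTwD4.isCartan
      (by norm_num)).of_equiv e.symm

end Tw2

end Cfsg.Agent.H766.Exo
end

-- part: H766/ExoOne
section
/-!
# S5268, exoticness: the simple groups of Lie type of rank one in defining characteristic (helper766)

* `Has1.card_le` : `|G| ≤ (p - 1) p^N (p^N + 1)` under `Pearly p N G`.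
-/

set_option autoImplicit false
set_option linter.unusedSectionVars false

namespace Cfsg.Agent.H766.Exo

open CoxeterSystem Cfsg Cfsg.Agent.ChevalleyStructure.CoxeterGeom Cfsg.Agent.Tits.Roots Cfsg.Agent.Nodes.Reps
  Cfsg.Agent.Nodes.BNOf Cfsg.Agent.Nodes.BNOf.RGD Cfsg.Agent.Nodes.Bruhat Cfsg.Agent.Nodes.OppDec
  Cfsg.Agent.Nodes.LeviDec
  Cfsg.Agent.KFacts.RgdLieCharP Cfsg.Agent.KFacts.RgdFilt Cfsg.Agent.KFacts.RgdCharP Cfsg.Agent.H789.Exo

section

variable {I W Y : Type*} [Fintype I] [DecidableEq I] [Group W] [Group Y] {M : CoxeterMatrix I}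
  {cs : CoxeterSystem M W} {A : I → I → ℤ} {h : IsCartan M A} {p : ℕ} {T : Subgroup Y} {n : I → Y}
  {X : (I → ℤ) → Subgroup Y} [Finite W]

/-- the torus acts faithfully on `U`, so it is small -/
theorem card_T_le [Finite Y] (R : RGD cs h p T n X) (hG : GG cs h T X = ⊤) (hN : KFacts.RgdCent.NoCent cs h T X)
    (hconn : Conn M) [Nonempty I] {N : ℕ} (H : Pearly p N Y) : Nat.card T ≤ p - 1 := by
  have hp : Fact p.Prime := ⟨H.prime⟩
  have hidx : ¬ p ∣ (Sup X (Pos cs h)).index := by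
    have := KFacts.RgdSyl.not_dvd_relIndex R
    rwa [hG, Subgroup.relIndex_top_right] at this
  let U : Sylow p Y := R.isPGroup_Upos.toSylow hidx
  have hU : Nat.card (Sup X (Pos cs h)) = p ^ N := by
    have h4 := U.card_eq_multiplicity
    rw [H.val] at h4
    exact h4
  obtain ⟨φ, hφ⟩ := H.aut (Sup X (Pos cs h)) R.isPGroup_Upos (by
    rw [hU]
    exact Nat.pow_le_pow_right H.prime.pos (by have := H.five; omega))
  have hT : T ≤ Subgroup.normalizer (Sup X (Pos cs h) : Set Y) := R.T_le_normalizer_U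
  have hcent : Subgroup.centralizer (Sup X (Pos cs h) : Set Y) ≤ Sup X (Pos cs h) := by
    have h1 := KFacts.RgdVJ.cent_VJ_le R hN hconn (J := ∅) (by
      intro e
      have h2 : Classical.arbitrary I ∈ (∅ : Set I) := by rw [e]; trivial
      exact h2)
    have h2 : VJ cs h X ∅ = Sup X (Pos cs h) := by
      unfold VJ
      congr 1
      ext z
      constructor
      · intro hz
        exact ⟨hz.1, hz.2.1⟩
      · intro hz
        refine ⟨hz.1, hz.2, ?_⟩
        by_contra hcon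
        push Not at hcon
        apply hz.1.ne_zero
        funext k
        exact le_antisymm (hcon k (Set.notMem_empty k)) (hz.2 k)
    rw [h2, hG, inf_top_eq] at h1
    exact h1
  let f : T →* (ZMod p)ˣ := φ.comp (Subgroup.inclusion hT)
  have hf : Function.Injective f := by
    rw [injective_iff_map_eq_one]
    intro t ht
    obtain ⟨k, hk⟩ := (hφ _).1 ht
    change (t : Y) ^ p ^ k ∈ _ at hk
    have h1 : (t : Y) ^ p ^ k ∈ Sup X (Pos cs h) ⊓ T := ⟨hcent hk, pow_mem t.2 _⟩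
    rw [U_inf_T R, Subgroup.mem_bot] at h1
    apply Subtype.ext
    refine coprime_of_pow_eq_one (p := p) ?_ h1
    have h2 : orderOf (t : Y) ∣ Nat.card T := by
      rw [Subgroup.orderOf_coe]
      exact orderOf_dvd_natCard t
    exact Nat.Coprime.coprime_dvd_left h2 R.tcop
  calc Nat.card T ≤ Nat.card (ZMod p)ˣ := Nat.card_le_card_of_injective f hf
    _ = p - 1 := by rw [Nat.card_eq_fintype_card, ZMod.card_units]

theorem eq_one_or (i : I) (hI : ∀ j, j = i) (w : W) : w = 1 ∨ w = cs.simple i := by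
  induction w using cs.simple_induction_left with
  | one => exact Or.inl rfl
  | mul_simple_left w j ih =>
    rw [hI j]
    rcases ih with rfl | rfl
    · right; rw [mul_one]
    · left; exact cs.simple_mul_simple_self i

/-- **Rank one.** -/
theorem card_le_of_rgd [Finite Y] (R : RGD cs h p T n X) (hG : GG cs h T X = ⊤)
    (hN : KFacts.RgdCent.NoCent cs h T X) (hconn : Conn M) (i : I) (hI : ∀ j, j = i) {N : ℕ} (H : Pearly p N Y) :
    Nat.card Y ≤ (p - 1) * (p ^ N * (p ^ N + 1)) := by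
  have hp : Fact p.Prime := ⟨H.prime⟩
  have : Nonempty I := ⟨i⟩
  have hT := card_T_le R hG hN hconn H
  have hidx : ¬ p ∣ (Sup X (Pos cs h)).index := by
    have := KFacts.RgdSyl.not_dvd_relIndex R
    rwa [hG, Subgroup.relIndex_top_right] at this
  let U : Sylow p Y := R.isPGroup_Upos.toSylow hidx
  have hU : Nat.card (Sup X (Pos cs h)) = p ^ N := by
    have h4 := U.card_eq_multiplicity
    rw [H.val] at h4
    exact h4
  let F : T × Sup X (Pos cs h) × Option (Sup X (Pos cs h)) → Y := fun z =>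
    match z.2.2 with
    | none => (z.1 : Y) * z.2.1
    | some v => (z.1 : Y) * z.2.1 * n i * v
  have hF : Function.Surjective F := by
    intro y
    have hy : y ∈ GG cs h T X := by rw [hG]; trivial
    obtain ⟨w, hw⟩ := (mem_GG R).1 hy
    rcases eq_one_or (cs := cs) i hI w with rfl | rfl
    · obtain ⟨t, ht, u, hu, e⟩ := R.mem_B.1 hw.mem_of_one
      exact ⟨(⟨t, ht⟩, ⟨u, hu⟩, none), e.symm⟩
    · obtain ⟨b₁, hb₁, k, hk, b₂, hb₂, e⟩ := hw
      have h1 : (n i)⁻¹ * k ∈ T := (rp_simple cs R.nsys i).unique hk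
      obtain ⟨t, ht, u, hu, e2⟩ := R.mem_B.1 (mul_mem (T_le_B h1) hb₂)
      have h2 : n i * t * (n i)⁻¹ ∈ T := (Subgroup.mem_normalizer_iff.1 (R.nsys.norm i) t).1 ht
      obtain ⟨s, hs, v, hv, e3⟩ := R.mem_B.1 (mul_mem hb₁ (T_le_B h2))
      refine ⟨(⟨s, hs⟩, ⟨v, hv⟩, some ⟨u, hu⟩), ?_⟩
      change s * v * n i * u = y
      rw [← e3, e]
      have e4 : b₂ = ((n i)⁻¹ * k)⁻¹ * (t * u) := by rw [← e2]; group
      rw [e4]
      group
  have h1 := Nat.card_le_card_of_surjective F hF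
  rw [Nat.card_prod, Nat.card_prod, hU] at h1
  have h2 : Nat.card (Option (Sup X (Pos cs h))) = p ^ N + 1 := by
    rw [Finite.card_option, hU]
  rw [h2] at h1
  exact h1.trans (Nat.mul_le_mul_right _ hT)

end

/-- `G` has a root group datum of characteristic `p` and of rank one -/
def Has1 (p : ℕ) (G : Type*) [Group G] : Prop :=
  ∃ (M : CoxeterMatrix (Fin 1)) (A : Fin 1 → Fin 1 → ℤ) (h : IsCartan M A) (T : Subgroup G) (n : Fin 1 → G)
    (X : (Fin 1 → ℤ) → Subgroup G) (_ : RGD M.toCoxeterSystem h p T n X),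
    Finite M.Group ∧ Nodes.RGDLib.G1 M.toCoxeterSystem h X = ⊤

theorem Has1.card_le {p : ℕ} {G : Type*} [Group G] [Finite G] [IsSimpleGroup G] {N : ℕ}
    (hc : ∃ a b : G, a * b ≠ b * a) (hG : Has1 p G) (H : Pearly p N G) :
    Nat.card G ≤ (p - 1) * (p ^ N * (p ^ N + 1)) := by
  obtain ⟨M, A, h, T, n, X, R, hW, hX⟩ := hG
  have hc' := center_eq_bot hc
  exact card_le_of_rgd R (GG_eq_top hX) (noCent_of_center hX hc') (conn_of_simple R hX hc') 0
    (fun j => Subsingleton.elim _ _) H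

theorem has1_PSL {p : ℕ} {F : Type*} [Field F] [Finite F] [Fact p.Prime] [CharP F p] :
    Has1 p (Matrix.ProjectiveSpecialLinearGroup (Fin 2) F) := by
  have hW : Finite (Cfsg.Agent.LieRecognition.BNCox.cA 1).Group :=
    Nodes.RootsA.finite_W (Cfsg.Agent.LieRecognition.BNCox.cA 1).toCoxeterSystem (Nodes.RootsA.isCartan 1)
  exact ⟨Cfsg.Agent.LieRecognition.BNCox.cA 1, _, Nodes.RootsA.isCartan 1, _, _, _, Nodes.RGDTypeA.rgd_psl _ _, hW,
    Nodes.RGDTypeA.G1_psl_eq_top _ _⟩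

section USp

open Cfsg.Agent.Nodes.WittU Cfsg.Agent.Nodes.WittInst Cfsg.Agent.Nodes.WittAll
open Cfsg.Agent.TitsThree Cfsg.Agent.TitsThree.Siegel Cfsg.Agent.TitsThree.WittFrame
  Cfsg.Agent.TitsThree.WittWeyl Cfsg.Agent.TitsThree.FrameCN
open Cfsg.Agent.Nodes.TypeC Cfsg.Agent.Nodes.Comb Cfsg.Agent.Nodes.WittRoot
open Cfsg.Agent.Nodes.RGDLib

theorem has1_PSU {p : ℕ} {F : Type*} [Field F] [Fintype F] {q : ℕ} (hF : Fintype.card F = q ^ 2)
    [Fact p.Prime] [CharP F p] : Has1 p (PSU 3 F q) := by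
  have hm : 3 = 2 * 1 ∨ 3 = 2 * 1 + 1 := Or.inr rfl
  obtain ⟨W, -⟩ := exists_wframe hF hm
  obtain ⟨p0, hp0, -⟩ := exists_adm hF W
  have hA := AmbT.of_amb (amb_U hF W) p
  let M := KInstU.model hF (by norm_num) W
  exact ⟨CoxeterMatrix.B 1, A 1, isCartan 1, _, _, _, rgdC_model M hA hp0 _,
    finite_W (CoxeterMatrix.B 1).toCoxeterSystem, Nodes.WittModel.G1_eq_top _ one_pos _⟩

end USp

end Cfsg.Agent.H766.Exo
end

-- part: H766/ExoChar
section
/-!
# S5268, exoticness: all simple groups of Lie type in defining characteristic (helper766)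

* `false_of_lieTypeChar` : a simple group of Lie type of characteristic `p` does not satisfy `Pearly p N`;
* `false_of_ree` : the small Ree groups, every `p`.
-/

set_option autoImplicit false
set_option linter.unusedSectionVars false

namespace Cfsg.Agent.H766.Exo

open Cfsg Cfsg.Agent.KFacts.RgdLieCharP Cfsg.Agent.H789.Exo

/-! ### rank one -/

theorem comm_of_equiv {G H : Type*} [Group G] [Group H] (e : G ≃* H) (hc : ∃ a b : G, a * b ≠ b * a) :
    ∃ a b : H, a * b ≠ b * a := by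
  obtain ⟨a, b, hab⟩ := hc
  refine ⟨e a, e b, fun h => hab (e.injective ?_)⟩
  rw [map_mul, map_mul, h]

theorem factorization_mul_of_not_dvd {p a b c k : ℕ} (hp : p.Prime) (hb : b ≠ 0) (hbp : ¬ p ∣ b)
    (hc : c ≠ 0) (hcp : ¬ p ∣ c) (h : c * a = p ^ k * b) : a.factorization p = k := by
  have ha : a ≠ 0 := by
    rintro rfl
    rw [mul_zero] at h
    exact (mul_ne_zero (pow_ne_zero _ hp.ne_zero) hb) h.symm
  have h1 : (c * a).factorization p = (p ^ k * b).factorization p := by rw [h]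
  rw [Nat.factorization_mul hc ha, Nat.factorization_mul (pow_ne_zero _ hp.ne_zero) hb, Finsupp.add_apply,
    Finsupp.add_apply, Nat.factorization_eq_zero_of_not_dvd hcp, Nat.factorization_eq_zero_of_not_dvd hbp,
    Nat.factorization_pow_self hp] at h1
  omega

theorem false_PSL_two {p N : ℕ} {F : Type*} [Field F] [Fintype F] [CharP F p]
    [IsSimpleGroup (Matrix.ProjectiveSpecialLinearGroup (Fin 2) F)]
    (hc : ∃ a b : Matrix.ProjectiveSpecialLinearGroup (Fin 2) F, a * b ≠ b * a)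
    (H : Pearly p N (Matrix.ProjectiveSpecialLinearGroup (Fin 2) F)) : False := by
  have hp : Fact p.Prime := ⟨H.prime⟩
  have hp3 := H.odd
  have h5 := H.five
  have : Finite (Matrix.ProjectiveSpecialLinearGroup (Fin 2) F) := Quotient.finite _
  obtain ⟨f, hf, hF⟩ := FiniteField.card F p
  have hodd : Odd p := H.prime.odd_of_ne_two (by omega)
  have hq : Odd (Fintype.card F) := by rw [hF]; exact hodd.pow
  have hcard := SmallSimple.PSLTwoPart.card_psl_two_odd hq
  have hq2 : 1 < Fintype.card F := Fintype.one_lt_card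
  have hN : N = f := by
    rw [← H.val]
    refine factorization_mul_of_not_dvd (b := Fintype.card F ^ 2 - 1) (c := 2) H.prime ?_ ?_ (by norm_num) ?_ ?_
    · have : 1 < Fintype.card F ^ 2 := Nat.one_lt_pow two_ne_zero hq2
      omega
    · intro h1
      have h2 : p ∣ Fintype.card F ^ 2 := by
        rw [hF, ← pow_mul]
        exact dvd_pow_self p (by positivity)
      have h3 : 1 ≤ Fintype.card F ^ 2 := Nat.one_le_pow _ _ (by omega)
      have h4 := (Nat.dvd_sub_iff_right h3 h2).1 h1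
      exact H.prime.one_lt.ne' (Nat.dvd_one.1 h4)
    · intro h1
      have := Nat.le_of_dvd (by norm_num) h1
      omega
    · rw [hcard, ← hF]
  have h1 := Has1.card_le hc has1_PSL H
  rw [hN, ← hF] at h1
  set q := Fintype.card F with hqd
  have h2 : q * (q ^ 2 - 1) ≤ 2 * ((p - 1) * (q * (q + 1))) := by
    rw [← hcard]
    exact Nat.mul_le_mul_left 2 h1
  have h3 : q ^ 2 - 1 = (q - 1) * (q + 1) := by
    have := Nat.sq_sub_sq q 1
    rw [one_pow] at this
    rw [this, mul_comm]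
  rw [h3, show q * ((q - 1) * (q + 1)) = (q - 1) * (q * (q + 1)) by ring,
    show 2 * ((p - 1) * (q * (q + 1))) = (2 * (p - 1)) * (q * (q + 1)) by ring] at h2
  have h4 := Nat.le_of_mul_le_mul_right h2 (by positivity)
  have h6 : p ^ 2 ≤ q := by
    rw [hF]
    exact Nat.pow_le_pow_right H.prime.pos (by omega)
  have h7 : 3 * p ≤ p ^ 2 := by rw [pow_two]; exact Nat.mul_le_mul_right _ hp3
  omega

theorem false_PSU_three {p N q : ℕ} {F : Type*} [Field F] [Fintype F] [CharP F p] (hF : Fintype.card F = q ^ 2)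
    [IsSimpleGroup (PSU 3 F q)] (hc : ∃ a b : PSU 3 F q, a * b ≠ b * a) (H : Pearly p N (PSU 3 F q)) : False := by
  have hp : Fact p.Prime := ⟨H.prime⟩
  have hp3 := H.odd
  have h5 := H.five
  have : Finite (PSU 3 F q) := Quotient.finite _
  obtain ⟨f, hf, hFf⟩ := FiniteField.card F p
  have hcard := Cfsg.Agent.S0280.result hF 3 (by norm_num)
  obtain ⟨k, -, hk⟩ := (Nat.dvd_prime_pow H.prime).1 (show q ∣ p ^ (f : ℕ) by
    rw [← hFf, hF]; exact dvd_pow_self q two_ne_zero)
  have hk0 : k ≠ 0 := by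
    rintro rfl
    rw [pow_zero] at hk
    have : 1 < Fintype.card F := Fintype.one_lt_card
    rw [hF, hk] at this
    omega
  have hpq : p ≤ q := by
    rw [hk]
    exact Nat.le_self_pow hk0 p
  have hpdq : p ∣ q := by rw [hk]; exact dvd_pow_self p hk0
  have e1 : ∏ i ∈ Finset.range 3, (if Even i then q ^ (i + 1) + 1 else q ^ (i + 1) - 1) =
      (q + 1) * (q ^ 2 - 1) * (q ^ 3 + 1) := by
    rw [Finset.prod_range_succ, Finset.prod_range_succ, Finset.prod_range_one]
    norm_num only [Nat.even_iff, _root_.pow_one, _root_.ite_true, _root_.ite_false]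
  rw [e1] at hcard
  norm_num only [] at hcard
  have hnd : ∀ m : ℕ, ∀ j, j ≠ 0 → m = q ^ j + 1 ∨ m + 1 = q ^ j → ¬ p ∣ m := by
    intro m j hj hm hdvd
    have h1 : p ∣ q ^ j := hpdq.trans (dvd_pow_self q hj)
    have h2 : p ∣ 1 := by
      rcases hm with hm | hm
      · rw [hm] at hdvd
        exact (Nat.dvd_add_right h1).1 hdvd
      · rw [← hm] at h1
        exact (Nat.dvd_add_right hdvd).1 h1
    exact H.prime.one_lt.ne' (Nat.dvd_one.1 h2)
  have hq2 : 2 < q ^ 2 := by nlinarith only [hp3, hpq]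
  have hN : N = 3 * k := by
    rw [← H.val]
    refine factorization_mul_of_not_dvd (b := (q + 1) * (q ^ 2 - 1) * (q ^ 3 + 1)) (c := Nat.gcd 3 (q + 1) * (q + 1))
      H.prime ?_ ?_ ?_ ?_ ?_
    · have : q ^ 2 - 1 ≠ 0 := by omega
      (clear * - this; positivity)
    · rw [H.prime.dvd_mul, H.prime.dvd_mul]
      rintro ((h1 | h1) | h1)
      · exact hnd _ 1 one_ne_zero (Or.inl (by rw [pow_one])) h1
      · exact hnd _ 2 two_ne_zero (Or.inr (by omega)) h1
      · exact hnd _ 3 three_ne_zero (Or.inl rfl) h1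
    · have := Nat.gcd_pos_of_pos_left (q + 1) (show 0 < 3 by norm_num)
      positivity
    · rw [H.prime.dvd_mul]
      rintro (h1 | h1)
      · exact hnd _ 1 one_ne_zero (Or.inl (by rw [pow_one])) (h1.trans (Nat.gcd_dvd_right _ _))
      · exact hnd _ 1 one_ne_zero (Or.inl (by rw [pow_one])) h1
    · rw [mul_assoc, hcard, hk, ← pow_mul, mul_comm k 3]
  have h1 := Has1.card_le hc (has1_PSU hF) H
  have h2 : p ^ N = q ^ 3 := by rw [hN, hk, ← pow_mul, mul_comm k 3]
  rw [h2] at h1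
  have hg : Nat.gcd 3 (q + 1) ≤ 3 := Nat.gcd_le_left _ (by norm_num)
  have h3 : q ^ 3 * ((q + 1) * (q ^ 2 - 1) * (q ^ 3 + 1)) ≤
      3 * ((q + 1) * ((p - 1) * (q ^ 3 * (q ^ 3 + 1)))) := by
    rw [← hcard]
    exact Nat.mul_le_mul hg (Nat.mul_le_mul_left _ h1)
  rw [show q ^ 3 * ((q + 1) * (q ^ 2 - 1) * (q ^ 3 + 1)) = (q ^ 2 - 1) * ((q + 1) * (q ^ 3 * (q ^ 3 + 1))) by ring,
    show 3 * ((q + 1) * ((p - 1) * (q ^ 3 * (q ^ 3 + 1)))) = (3 * (p - 1)) * ((q + 1) * (q ^ 3 * (q ^ 3 + 1))) by ring]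
    at h3
  have hq0 : 0 < q := by omega
  have h4 := Nat.le_of_mul_le_mul_right h3 (by (clear * - hq0; positivity))
  have h6 : 3 * q ≤ q ^ 2 := by rw [pow_two]; exact Nat.mul_le_mul_right _ (by omega)
  omega

/-! ### the small Ree groups -/

section Ree

open Cfsg.Agent.LieRecognition.ReeSylowThree Cfsg.Agent.LieRecognition.ReeAbs

theorem false_of_data {K : Type*} [Field K] [Fintype K] {G : Type*} [Group G] {m : ℕ} {U : K → K → K → G}
    {h : Kˣ → G} {n : G} (hK : Fintype.card K = 3 ^ (2 * m + 1)) (hm : 1 ≤ m)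
    (D : LieRecognition.ReeAbs.Data m U h n) {N : ℕ} (H : Pearly 3 N G) : False := by
  have h3 : Fact (Nat.Prime 3) := ⟨Nat.prime_three⟩
  have hq : 27 ≤ Fintype.card K := by
    rw [hK]
    calc 27 = 3 ^ 3 := by norm_num
      _ ≤ _ := Nat.pow_le_pow_right (by norm_num) (by omega)
  have hc := card_uSub D
  have hfin : Finite G := LieRecognition.ReeSylowThree.finite D
  have hRp : IsPGroup 3 (uSub D) := by
    rw [IsPGroup.iff_card]
    exact ⟨3 * (2 * m + 1), by rw [hc, hK, ← pow_mul, mul_comm]⟩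
  -- a generator of the torus
  obtain ⟨a, ha⟩ := IsCyclic.exists_generator (α := Kˣ)
  have hoa : orderOf a = Fintype.card K - 1 := by
    rw [orderOf_eq_card_of_forall_mem_zpowers ha, Nat.card_units, Nat.card_eq_fintype_card]
  have hpow : ∀ (b : Kˣ) (j : ℕ), h b ^ j = h (b ^ j) := by
    have h1 : h 1 = 1 := by
      have := D.h_mul 1 1
      rw [one_mul] at this
      exact mul_eq_left.1 this.symm
    intro b j
    induction j with
    | zero => rw [pow_zero, pow_zero, h1]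
    | succ j ih => rw [pow_succ, ih, pow_succ, D.h_mul]
  have hinv : ∀ b, (h b)⁻¹ = h b⁻¹ := by
    intro b
    rw [inv_eq_iff_mul_eq_one, ← D.h_mul, mul_inv_cancel]
    have := D.h_mul 1 1
    rw [one_mul] at this
    exact mul_eq_left.1 this.symm
  have hnorm : h a ∈ Subgroup.normalizer (uSub D : Set G) := by
    rw [Subgroup.mem_normalizer_iff]
    intro x
    refine ⟨fun hx => h_conj_mem D a hx, fun hx => ?_⟩
    have h1 := h_conj_mem D a⁻¹ hx
    rw [← hinv] at h1
    have e : (h a)⁻¹ * (h a * x * (h a)⁻¹) * ((h a)⁻¹)⁻¹ = x := by group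
    rwa [e] at h1
  obtain ⟨k, hk⟩ := H.exists_pow hRp (by
    rw [hc]
    calc 3 ^ 3 ≤ 27 ^ 3 := by norm_num
      _ ≤ _ := Nat.pow_le_pow_left hq 3) hnorm
  rw [hpow, Subgroup.mem_centralizer_iff] at hk
  set b := a ^ ((3 - 1) * 3 ^ k) with hb
  have h1 := hk (U 1 0 0) ⟨1, 0, 0, rfl⟩
  have h2 : U ((b : K) ^ (3 ^ (m + 1))) 0 0 = U 1 0 0 := by
    have h4 := D.h_U b 1 0 0
    rw [mul_one, mul_zero, mul_zero, ← h1] at h4
    exact (mul_right_cancel h4).symm
  have h4 := (U_injective D h2).1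
  have h6 : b ^ 3 ^ (m + 1) = 1 := Units.ext (by rw [Units.val_pow_eq_pow_val, h4, Units.val_one])
  rw [hb, ← pow_mul] at h6
  have h7 := orderOf_dvd_of_pow_eq_one h6
  rw [hoa] at h7
  have h8 : Nat.Coprime (Fintype.card K - 1) 3 := by
    have h9 : 3 ∣ Fintype.card K := by rw [hK]; exact dvd_pow_self 3 (by omega)
    rw [Nat.coprime_comm, Nat.Prime.coprime_iff_not_dvd Nat.prime_three]
    intro h10
    have := (Nat.dvd_sub_iff_right (by omega) h9).1 h10
    omega
  have h9 : (Fintype.card K - 1) ∣ 2 * (3 ^ k * 3 ^ (m + 1)) := by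
    rw [show 2 * (3 ^ k * 3 ^ (m + 1)) = (3 - 1) * 3 ^ k * 3 ^ (m + 1) by ring]
    exact h7
  have h10 : Nat.Coprime (Fintype.card K - 1) (3 ^ k * 3 ^ (m + 1)) := by
    rw [← pow_add]
    exact Nat.Coprime.pow_right _ h8
  have h11 := Nat.le_of_dvd (by norm_num) (h10.dvd_of_dvd_mul_right h9)
  omega

/-- the small Ree groups -/
theorem false_of_ree {G : Type*} [Group G] (hG : Lie.IsoRee G) {p N : ℕ} (H : Pearly p N G) : False := by
  obtain ⟨K, _, _, m, hm, hK, ⟨e⟩⟩ := hG
  have H' := H.congr e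
  obtain ⟨U, h, n, D⟩ := Cfsg.Agent.ChevalleyStructure.Ree.Data.exists_data hK
  have hp3 := H.odd
  by_cases h3 : p = 3
  · subst h3
    exact false_of_data hK hm D H'
  · have hp : Fact p.Prime := ⟨H.prime⟩
    have hfin : Finite ↥(Cfsg.Lie.twistedG2 K (3 ^ m)) := LieRecognition.ReeSylowThree.finite D
    have P : Sylow p ↥(Cfsg.Lie.twistedG2 K (3 ^ m)) := default
    have hcyc := Cfsg.Agent.S1156.result hm hK (p := p) (by omega) P
    refine H'.false_of_comm P fun x hx y hy => ?_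
    obtain ⟨g, hg⟩ := hcyc
    obtain ⟨i, hi⟩ := hg ⟨x, hx⟩
    obtain ⟨j, hj⟩ := hg ⟨y, hy⟩
    have h1 : (⟨x, hx⟩ : P) * ⟨y, hy⟩ = ⟨y, hy⟩ * ⟨x, hx⟩ := by
      rw [← hi, ← hj]
      exact (Commute.refl g).zpow_zpow i j
    exact congrArg Subtype.val h1

end Ree

/-! ### all families -/

theorem false_of_lieTypeChar {G : Type*} [Group G] [Finite G] [IsSimpleGroup G] {p N : ℕ}
    (hc : ∃ a b : G, a * b ≠ b * a) (H : Pearly p N G) (hG : IsLieTypeChar p G) : False := by
  have hp : Fact p.Prime := ⟨H.prime⟩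
  have hp3 := H.odd
  rcases hG with h | h | h | h | h | h | h | h | ⟨h, -⟩ | ⟨h, -⟩ | ⟨-, h⟩
  · obtain ⟨F, _, _, _, n, hn, -, ⟨e⟩⟩ := h
    have : Finite (Matrix.ProjectiveSpecialLinearGroup (Fin n) F) := Quotient.finite _
    rcases eq_or_lt_of_le hn with rfl | hn
    · have : IsSimpleGroup (Matrix.ProjectiveSpecialLinearGroup (Fin 2) F) :=
        IsSimpleGroup.isSimpleGroup_of_surjective e.toMonoidHom e.surjective
      exact false_PSL_two (comm_of_equiv e hc) (H.congr e)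
    · obtain ⟨n, rfl⟩ : ∃ k, n = k + 1 := ⟨n - 1, by omega⟩
      exact ((has2_PSL n (by omega)).of_equiv e.symm).false hc H
  · obtain ⟨F, _, _, _, m, hm, -, ⟨e⟩⟩ := h
    have : Finite (PSp m F) := Quotient.finite _
    exact ((has2_PSp hm).of_equiv e.symm).false hc H
  · obtain ⟨F, _, _, _, n, q, hF, hn, -, ⟨e⟩⟩ := h
    have : Finite (PSU n F q) := Quotient.finite _
    rcases eq_or_lt_of_le hn with rfl | hn
    · have : Nontrivial (PSU 3 F q) := e.symm.toEquiv.nontrivial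
      have : IsSimpleGroup (PSU 3 F q) :=
        IsSimpleGroup.isSimpleGroup_of_surjective e.toMonoidHom e.surjective
      exact false_PSU_three hF (comm_of_equiv e hc) (H.congr e)
    · exact ((has2_PSU hF hn).of_equiv e.symm).false hc H
  · obtain ⟨F, _, _, _, m, hm, hodd, ⟨e⟩⟩ := h
    have h2 : (2 : F) ≠ 0 := by
      intro h2
      have h3 : CharP F 2 := CharTwo.of_one_ne_zero_of_two_eq_zero one_ne_zero h2
      have := CharP.eq F ‹CharP F p› h3
      omega
    have : Finite (Cfsg.POmega F (Cfsg.quadFormOdd m F)) := Quotient.finite _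
    exact ((has2_PO_odd h2 (by omega)).of_equiv e.symm).false hc H
  · obtain ⟨F, _, _, _, m, hm, ⟨e⟩⟩ := h
    obtain ⟨n, rfl⟩ : ∃ n, m = n + 3 := ⟨m - 3, by omega⟩
    have : Finite (Cfsg.POmega F (Cfsg.quadFormPlus (n + 3) F)) := Quotient.finite _
    exact ((has2_PO_plus n).of_equiv e.symm).false hc H
  · obtain ⟨F, _, _, _, m, a, b, hm, hab, ⟨e⟩⟩ := h
    have h2 : (2 : F) ≠ 0 := by
      intro h2
      have h3 : CharP F 2 := CharTwo.of_one_ne_zero_of_two_eq_zero one_ne_zero h2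
      have := CharP.eq F ‹CharP F p› h3
      omega
    have : Finite (Cfsg.POmega F (Cfsg.quadFormMinus m F a b)) := Quotient.finite _
    exact ((has2_PO_minus h2 a b hab (by omega)).of_equiv e.symm).false hc H
  · exact (has2_of_exceptional h).false hc H
  · exact (has2_of_twisted h).false hc H
  · omega
  · omega
  · exact false_of_ree h H

/-- **The row EXO-DEF.** -/
theorem row_defining {p N : ℕ} {G : Type*} [Group G] [Finite G] [IsSimpleGroup G] (H : Pearly p N G)
    (hG : IsLieTypeChar p G) : False := by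
  by_cases hc : ∃ a b : G, a * b ≠ b * a
  · exact false_of_lieTypeChar hc H hG
  · push Not at hc
    exact H.false_of_comm (default : Sylow p G) fun x _ y _ => hc x y

end Cfsg.Agent.H766.Exo
end

private theorem dce_d3f018d31b86 : _root_.True := by
  try have : _root_.True := by simp only [_root_.Cfsg.Agent.H789.Exo.rot.eq_1]
  try have : _root_.True := by simp only [_root_.Cfsg.Agent.H789.Exo.refl.eq_1]
  exact _root_.True.intro
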